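import Mathlib.RingTheory.Smooth.Basic
import Mathlib.RingTheory.Coalgebra.Basic
import Mathlib.RingTheory.Bialgebra.Basic
import Mathlib.RingTheory.TensorProduct.Maps
import Mathlib.LinearAlgebra.TensorProduct.Basis
import Mathlib.LinearAlgebra.FreeModule.Basic

/-!
# The fixed locus of a coaction of a linearly reductive Hopf algebra is formally smooth

`k` a commutative ring, `D` a bialgebra, free as a module, with a normalised invariant integral
`∫ : D → k`, `ρ : A → A ⊗ D` a coassociative coaction by algebra maps.  The ideal `fixIdeal ρ` of `A`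
is generated by the coefficients `(id ⊗ λ)(ρ a - a ⊗ 1)`; it is the ideal of the fixed locus.

* `formallySmooth_fix`: if `A` is formally smooth then `A ⧸ fixIdeal ρ` is formally smooth.
-/

set_option autoImplicit false

universe u v w

open TensorProduct Coalgebra

namespace Groth.Agent.Agf.H609.FixSm

noncomputable section

variable {k : Type u} [CommRing k] {A : Type v} [CommRing A] [Algebra k A]
  {D : Type w} [CommRing D] [Bialgebra k D]

/-- The coefficient map `id ⊗ λ : A ⊗ D → A`. -/
def coef (l : Module.Dual k D) : A ⊗[k] D →ₗ[A] A :=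
  (Algebra.TensorProduct.rid k A A).toLinearMap ∘ₗ
    (AlgebraTensorModule.map (LinearMap.id : A →ₗ[A] A) l)

@[simp] lemma coef_tmul (l : Module.Dual k D) (a : A) (d : D) :
    coef l (a ⊗ₜ[k] d) = l d • a := by
  simp [coef]

lemma coef_add (l l' : Module.Dual k D) (t : A ⊗[k] D) : coef (l + l') t = coef l t + coef l' t := by
  induction t with
  | zero => simp
  | add x y hx hy => rw [map_add, map_add, map_add, hx, hy]; abel
  | tmul a d => simp [add_smul]

/-- `coef l` is `A`-linear for the multiplication by `a ⊗ 1`. -/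
lemma coef_mul_left (l : Module.Dual k D) (a : A) (t : A ⊗[k] D) :
    coef l ((a ⊗ₜ[k] (1 : D)) * t) = a * coef l t := by
  have h : (a ⊗ₜ[k] (1 : D)) * t = a • t := by
    rw [Algebra.smul_def]; rfl
  rw [h, map_smul, smul_eq_mul]

/-- The ideal of the fixed locus of a coaction. -/
def fixIdeal (ρ : A →ₐ[k] A ⊗[k] D) : Ideal A :=
  Ideal.span {x | ∃ (a : A) (l : Module.Dual k D), x = coef l (ρ a - a ⊗ₜ[k] (1 : D))}

lemma coef_mem_fixIdeal (ρ : A →ₐ[k] A ⊗[k] D) (a : A) (l : Module.Dual k D) :
    coef l (ρ a - a ⊗ₜ[k] (1 : D)) ∈ fixIdeal ρ := Ideal.subset_span ⟨a, l, rfl⟩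

section basis

omit [Bialgebra k D] in
/-- An element of `A ⊗ D` in terms of its coefficients. -/
lemma eq_sum_coef [Algebra k D] {ι : Type*} [DecidableEq ι] (b : Module.Basis ι k D) (t : A ⊗[k] D) :
    t = (TensorProduct.equivFinsuppOfBasisRight b t).sum fun i m => m ⊗ₜ[k] b i := by
  rw [← TensorProduct.equivFinsuppOfBasisRight_symm_apply, LinearEquiv.symm_apply_apply]

lemma equiv_apply_eq_coef {ι : Type*} [DecidableEq ι] (b : Module.Basis ι k D) (t : A ⊗[k] D) (i : ι) :
    TensorProduct.equivFinsuppOfBasisRight b t i = coef (b.coord i) t := by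
  induction t with
  | zero => simp
  | add x y hx hy => rw [map_add, Finsupp.add_apply, hx, hy, map_add]
  | tmul a d => rw [TensorProduct.equivFinsuppOfBasisRight_apply_tmul_apply, coef_tmul]; rfl

variable [Module.Free k D]

/-- The coefficients of a product of two elements with coefficients in `I` lie in `I ^ 2`. -/
lemma coef_mul_mem (I : Ideal A) {s t : A ⊗[k] D} (hs : ∀ l : Module.Dual k D, coef l s ∈ I)
    (ht : ∀ l : Module.Dual k D, coef l t ∈ I) (l : Module.Dual k D) : coef l (s * t) ∈ I ^ 2 := by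
  classical
  let b := Module.Free.chooseBasis k D
  rw [eq_sum_coef b s, eq_sum_coef b t]
  simp only [Finsupp.sum]
  rw [Finset.sum_mul_sum, map_sum]
  refine Ideal.sum_mem _ fun i _ => ?_
  rw [map_sum]
  refine Ideal.sum_mem _ fun j _ => ?_
  rw [Algebra.TensorProduct.tmul_mul_tmul, coef_tmul, equiv_apply_eq_coef, equiv_apply_eq_coef,
    pow_two]
  exact Submodule.smul_of_tower_mem _ _ (Ideal.mul_mem_mul (hs _) (ht _))

lemma eq_zero_of_coef {t : A ⊗[k] D} (h : ∀ l : Module.Dual k D, coef l t = 0) : t = 0 := by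
  classical
  let b := Module.Free.chooseBasis k D
  apply (TensorProduct.equivFinsuppOfBasisRight b).injective
  ext i
  rw [equiv_apply_eq_coef, h, map_zero, Finsupp.zero_apply]

end basis

/-- `ρ (coef l t)` in terms of `(ρ ⊗ id) t`. -/
lemma map_coef (ρ : A →ₐ[k] A ⊗[k] D) (l : Module.Dual k D) (t : A ⊗[k] D) (m : Module.Dual k D) :
    coef m (ρ (coef l t)) =
      coef m ((TensorProduct.rid k (A ⊗[k] D)) (l.lTensor (A ⊗[k] D)
        ((ρ.toLinearMap).rTensor D t))) := by
  congr 1
  induction t with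
  | zero => simp
  | add x y hx hy => simp only [map_add, hx, hy]
  | tmul a d => simp

/-- Invariance of the integral in terms of coefficients. -/
lemma coef_integral (I : Module.Dual k D) (hinv : ∀ d : D,
      (TensorProduct.lid k D) (I.rTensor D (comul (R := k) d)) = I d • (1 : D))
    (l : Module.Dual k D) (t : A ⊗[k] D) :
    coef I ((TensorProduct.rid k (A ⊗[k] D)) (l.lTensor (A ⊗[k] D)
      ((TensorProduct.assoc k A D D).symm ((comul (R := k) (A := D)).lTensor A t)))) =
      l 1 • coef I t := by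
  induction t with
  | zero => simp
  | add x y hx hy => simp only [map_add, hx, hy, smul_add]
  | tmul a d =>
    have h1 : ∀ s : D ⊗[k] D, coef I ((TensorProduct.rid k (A ⊗[k] D)) (l.lTensor (A ⊗[k] D)
        ((TensorProduct.assoc k A D D).symm (a ⊗ₜ[k] s)))) =
        l ((TensorProduct.lid k D) (I.rTensor D s)) • a := by
      intro s
      induction s with
      | zero => simp
      | add x y hx hy => rw [TensorProduct.tmul_add]; simp only [map_add, hx, hy, add_smul]
      | tmul x y =>
        simp [smul_smul, mul_comm]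
    rw [LinearMap.lTensor_tmul, h1, hinv, map_smul, coef_tmul, smul_smul, smul_eq_mul, mul_comm]

/-- **The fixed locus of a linearly reductive group acting on a formally smooth scheme is formally
smooth.** -/
theorem formallySmooth_fix [Module.Free k D] [Algebra.FormallySmooth k A]
    (ρ : A →ₐ[k] A ⊗[k] D)
    (hco : ∀ a, (ρ.toLinearMap).rTensor D (ρ a) =
      (TensorProduct.assoc k A D D).symm ((comul (R := k) (A := D)).lTensor A (ρ a)))
    (I : Module.Dual k D) (hI1 : I 1 = 1) (hinv : ∀ d : D,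
      (TensorProduct.lid k D) (I.rTensor D (comul (R := k) d)) = I d • (1 : D)) :
    Algebra.FormallySmooth k (A ⧸ fixIdeal ρ) := by
  set J : Ideal A := fixIdeal ρ with hJ
  let p : A →ₗ[k] A := (coef I).restrictScalars k ∘ₗ ρ.toLinearMap
  have hp : ∀ a, p a = coef I (ρ a) := fun a => rfl
  have hpa : ∀ a, p a - a ∈ J := by
    intro a
    have h1 := coef_mem_fixIdeal ρ a I
    rwa [map_sub, coef_tmul, hI1, one_smul] at h1
  have hp1 : p 1 = 1 := by
    rw [hp, map_one, Algebra.TensorProduct.one_def, coef_tmul, hI1, one_smul]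
  have hpmul : ∀ a b, p (a * b) - p a * p b ∈ J ^ 2 := by
    intro a b
    have h1 : ρ (a * b) = (a ⊗ₜ[k] (1 : D)) * (b ⊗ₜ[k] (1 : D)) +
        (a ⊗ₜ[k] (1 : D)) * (ρ b - b ⊗ₜ[k] (1 : D)) + (b ⊗ₜ[k] (1 : D)) * (ρ a - a ⊗ₜ[k] (1 : D)) +
        (ρ a - a ⊗ₜ[k] (1 : D)) * (ρ b - b ⊗ₜ[k] (1 : D)) := by
      rw [map_mul]; ring
    have h2 : p (a * b) - p a * p b = coef I ((ρ a - a ⊗ₜ[k] (1 : D)) * (ρ b - b ⊗ₜ[k] (1 : D))) -
        (p a - a) * (p b - b) := by
      rw [hp, h1, map_add, map_add, map_add, coef_mul_left, coef_mul_left, coef_mul_left, map_sub,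
        map_sub, coef_tmul, coef_tmul, hI1, one_smul, one_smul, ← hp, ← hp]
      ring
    rw [h2]
    refine Ideal.sub_mem _ (coef_mul_mem J (fun l => coef_mem_fixIdeal ρ a l)
      (fun l => coef_mem_fixIdeal ρ b l) I) ?_
    rw [pow_two]
    exact Ideal.mul_mem_mul (hpa a) (hpa b)
  have hpJ : ∀ x ∈ J, p x ∈ J ^ 2 := by
    intro x hx
    rw [hJ, fixIdeal] at hx
    induction hx using Submodule.span_induction with
    | mem x hx =>
      obtain ⟨a, l, rfl⟩ := hx
      have h1 : p (coef l (ρ a - a ⊗ₜ[k] (1 : D))) = 0 := by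
        rw [map_sub, map_sub, coef_tmul, map_smul, hp, hp, map_coef, hco, coef_integral I hinv,
          sub_self]
      rw [h1]
      exact Ideal.zero_mem _
    | zero => rw [map_zero]; exact Ideal.zero_mem _
    | add x y _ _ hx hy => rw [map_add]; exact Ideal.add_mem _ hx hy
    | smul c x _ hx =>
      have h1 := hpmul c x
      have h2 := Ideal.add_mem _ h1 (Ideal.mul_mem_left _ (p c) hx)
      rwa [sub_add_cancel] at h2
  -- the section
  let f : A →ₐ[k] A ⧸ J := Ideal.Quotient.mkₐ k J
  have hker : RingHom.ker f.toRingHom = J := Ideal.mk_ker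
  let σ₀ : A →ₐ[k] A ⧸ (RingHom.ker f.toRingHom ^ 2) :=
    AlgHom.ofLinearMap ((Ideal.Quotient.mkₐ k (RingHom.ker f.toRingHom ^ 2)).toLinearMap ∘ₗ p)
      (by
        change Ideal.Quotient.mk _ (p 1) = 1
        rw [hp1, map_one])
      (by
        intro a b
        change Ideal.Quotient.mk _ (p (a * b)) = Ideal.Quotient.mk _ (p a) * Ideal.Quotient.mk _ (p b)
        rw [← map_mul, Ideal.Quotient.eq, hker]
        exact hpmul a b)
  have hσ₀ : ∀ a ∈ J, σ₀ a = 0 := by
    intro a ha
    change Ideal.Quotient.mk _ (p a) = 0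
    rw [Ideal.Quotient.eq_zero_iff_mem, hker]
    exact hpJ a ha
  refine Algebra.FormallySmooth.of_split f (Ideal.Quotient.liftₐ J σ₀ hσ₀) ?_
  apply Ideal.Quotient.algHom_ext
  apply AlgHom.ext
  intro a
  change f (p a) = f a
  rw [← sub_eq_zero, ← map_sub]
  exact Ideal.Quotient.eq_zero_iff_mem.2 (hpa a)

end

end Groth.Agent.Agf.H609.FixSm
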